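import Cfsg.Agent.Forms.FieldInvolution

/-!
Norms in finite rings with an involution: every fixed unit is `x * σ x`, or `s c * c` in the
non-commutative setting.
-/

set_option autoImplicit false

namespace Cfsg.Agent.ClassConj

section Comm

variable {R : Type*} [CommRing R]

/-- Fixed unipotent elements are norms as soon as some element has trace one. -/
theorem exists_norm_one_add (σ : R →+* R) (hσ2 : ∀ a, σ (σ a) = a) {y : R} (hy : y + σ y = 1) :
    ∀ (k : ℕ) (n : R), n ^ k = 0 → σ n = n → ∃ z, IsUnit z ∧ z * σ z = 1 + n := by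
  intro k
  induction k using Nat.strong_induction_on with
  | _ k ih =>
    intro n hk hn
    rcases Nat.lt_or_ge k 2 with h | h
    · have : n = 0 := by
        interval_cases k
        · rw [pow_zero] at hk; rw [← mul_one n, hk, mul_zero]
        · rwa [pow_one] at hk
      exact ⟨1, isUnit_one, by rw [this]; simp⟩
    have hnil : IsNilpotent n := ⟨k, hk⟩
    set p := y * σ y with hp
    have hnil2 : IsNilpotent (n + n * n * p) := by
      rw [show n + n * n * p = n * (1 + n * p) by ring]
      exact (Commute.all n _).isNilpotent_mul_right hnil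
    obtain ⟨w, hw⟩ : ∃ w, (1 + (n + n * n * p)) * w = 1 := by
      obtain ⟨u, hu⟩ := hnil2.isUnit_one_add
      exact ⟨(u⁻¹ : Rˣ), by rw [← hu, Units.mul_inv]⟩
    have hz : (1 + n * y) * σ (1 + n * y) = 1 + (n + n * n * p) := by
      rw [map_add, map_one, map_mul, hn]
      linear_combination n * hy + n * n * hp.symm
    have hσp : σ p = p := by rw [hp, map_mul, hσ2, mul_comm]
    have hσw : σ w = w := by
      have h1 := congrArg σ hw
      simp only [map_mul, map_add, map_one, hn, hσp] at h1
      calc σ w = σ w * ((1 + (n + n * n * p)) * w) := by rw [hw, mul_one]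
        _ = ((1 + (n + n * n * p)) * σ w) * w := by ring
        _ = w := by rw [h1, one_mul]
    set n' := -(n * n * p * w) with hn'
    have hk' : n' ^ (k - 1) = 0 := by
      rw [hn', neg_pow, mul_pow, mul_pow, ← sq, ← pow_mul,
        pow_eq_zero_of_le (show k ≤ 2 * (k - 1) by omega) hk]
      simp
    have hσn' : σ n' = n' := by simp only [hn', map_neg, map_mul, hn, hσp, hσw]
    obtain ⟨z, hzu, hz'⟩ := ih (k - 1) (by omega) n' hk' hσn'
    refine ⟨(1 + n * y) * z, ((Commute.all n y).isNilpotent_mul_right hnil).isUnit_one_add.mul hzu, ?_⟩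
    rw [map_mul, mul_mul_mul_comm, hz, hz']
    linear_combination (-(n * n * p)) * hw

variable [Finite R]

/-- In a finite commutative ring with an involution moving some `θ` by a unit, every fixed unit
is a norm. -/
theorem exists_mul_apply_eq_ring (σ : R →+* R) (hσ2 : ∀ a, σ (σ a) = a) {θ : R}
    (hθ : IsUnit (θ - σ θ)) {h : R} (hh : σ h = h) (hu : IsUnit h) :
    ∃ x, IsUnit x ∧ x * σ x = h := by
  classical
  haveI : Finite (MaximalSpectrum R) :=
    Finite.of_injective (fun M => (M.asIdeal : Set R)) fun a b e => MaximalSpectrum.ext (SetLike.coe_injective e)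
  haveI : Fintype (MaximalSpectrum R) := Fintype.ofFinite _
  have hσs : Function.Surjective σ := fun a => ⟨σ a, hσ2 a⟩
  let c : MaximalSpectrum R → MaximalSpectrum R := fun M =>
    ⟨M.asIdeal.comap σ, Ideal.comap_isMaximal_of_surjective σ hσs (H := M.isMaximal)⟩
  have hcc : ∀ M, c (c M) = M := fun M => MaximalSpectrum.ext (SetLike.ext fun a => by
    show σ (σ a) ∈ M.asIdeal ↔ a ∈ M.asIdeal
    rw [hσ2])
  have hmem : ∀ M a, a ∈ (c M).asIdeal ↔ σ a ∈ M.asIdeal := fun M a => Iff.rfl
  -- residue fields of the fixed maximal ideals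
  have hfix : ∀ M, c M = M → ∃ z, z * σ z - h ∈ M.asIdeal := by
    intro M hM
    haveI := M.isMaximal
    letI := Ideal.Quotient.field M.asIdeal
    haveI : Finite (R ⧸ M.asIdeal) := Finite.of_surjective _ Ideal.Quotient.mk_surjective
    have hle : M.asIdeal ≤ M.asIdeal.comap σ := le_of_eq (congrArg MaximalSpectrum.asIdeal hM).symm
    let τ : R ⧸ M.asIdeal →+* R ⧸ M.asIdeal := Ideal.quotientMap M.asIdeal σ hle
    have hτ : ∀ a, τ (Ideal.Quotient.mk _ a) = Ideal.Quotient.mk _ (σ a) := fun a => rfl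
    have hne : τ ≠ RingHom.id _ := fun e => by
      have h1 := RingHom.congr_fun e (Ideal.Quotient.mk _ θ)
      rw [hτ, RingHom.id_apply, Ideal.Quotient.eq] at h1
      have h2 : θ - σ θ ∈ M.asIdeal := by rw [← neg_sub]; exact neg_mem h1
      exact M.isMaximal.ne_top (Ideal.eq_top_of_isUnit_mem _ h2 hθ)
    have hτ2 : ∀ a, τ (τ a) = a := fun a => by
      obtain ⟨a, rfl⟩ := Ideal.Quotient.mk_surjective a
      rw [hτ, hτ, hσ2]
    obtain ⟨z, hz⟩ := Forms.exists_mul_apply_eq hne hτ2 (a := Ideal.Quotient.mk _ h) (by rw [hτ, hh])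
    obtain ⟨z, rfl⟩ := Ideal.Quotient.mk_surjective z
    exact ⟨z, Ideal.Quotient.eq.1 (by rw [map_mul, ← hτ]; exact hz)⟩
  choose z0 hz0 using hfix
  let o := Fintype.equivFin (MaximalSpectrum R)
  let z : MaximalSpectrum R → R := fun M =>
    if hM : c M = M then z0 M hM else if o M < o (c M) then h else 1
  obtain ⟨x, hx⟩ := Ideal.pi_mkQ_surjective (I := fun M : MaximalSpectrum R => M.asIdeal)
    (fun M N hMN => Ideal.isCoprime_of_isMaximal fun e => hMN (MaximalSpectrum.ext e))
    (fun M => Submodule.Quotient.mk (z M))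
  have hx' : ∀ M, x - z M ∈ M.asIdeal := fun M => (Submodule.Quotient.eq _).1 (congrFun hx M)
  have hA : ∀ M : MaximalSpectrum R, x * σ x - h ∈ M.asIdeal := by
    intro M
    have h1 : σ x - σ (z (c M)) ∈ M.asIdeal := by
      rw [← map_sub]; exact (hmem M _).1 (hx' (c M))
    have h2 : z M * σ (z (c M)) - h ∈ M.asIdeal := by
      by_cases hM : c M = M
      · rw [hM]; simp only [z, dif_pos hM]; exact hz0 M hM
      · have hM' : ¬ c (c M) = c M := by rw [hcc]; exact Ne.symm hM
        simp only [z, dif_neg hM, dif_neg hM', hcc]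
        rcases lt_or_gt_of_ne (fun e => hM (o.injective e).symm : o M ≠ o (c M)) with hlt | hlt
        · simp [if_pos hlt, if_neg (lt_asymm hlt)]
        · simp [if_pos hlt, if_neg (lt_asymm hlt), hh]
    have : x * σ x - h = (x - z M) * σ x + z M * (σ x - σ (z (c M))) + (z M * σ (z (c M)) - h) := by ring
    rw [this]
    exact add_mem (add_mem (Ideal.mul_mem_right _ _ (hx' M)) (Ideal.mul_mem_left _ _ h1)) h2
  have hNu : IsUnit (x * σ x) := by
    by_contra hn
    obtain ⟨M, hM, hxM⟩ := exists_max_ideal_of_mem_nonunits hn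
    exact hM.ne_top (Ideal.eq_top_of_isUnit_mem _ (by
      have := sub_mem hxM (hA ⟨M, hM⟩); rwa [sub_sub_cancel] at this) hu)
  obtain ⟨N, hN⟩ := hNu
  set n := h * (N⁻¹ : Rˣ) - 1 with hn
  have hnil : IsNilpotent n := by
    rw [← mem_nilradical, nilradical_eq_sInf, Ideal.mem_sInf]
    intro P hP
    haveI : P.IsPrime := hP
    haveI : Finite (R ⧸ P) := Finite.of_surjective _ Ideal.Quotient.mk_surjective
    haveI hPm : P.IsMaximal :=
      Ideal.Quotient.maximal_of_isField _ (Finite.isField_of_domain (R ⧸ P))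
    have : n = -((x * σ x - h) * (N⁻¹ : Rˣ)) := by
      rw [hn, ← hN, sub_mul, Units.mul_inv]; ring
    rw [this]
    exact neg_mem (Ideal.mul_mem_right _ _ (hA ⟨P, hPm⟩))
  have hσN : σ (N⁻¹ : Rˣ) = ((N⁻¹ : Rˣ) : R) := by
    have e : σ (N : R) = N := by rw [hN, map_mul, hσ2, mul_comm]
    calc σ (N⁻¹ : Rˣ) = σ (N⁻¹ : Rˣ) * (N * (N⁻¹ : Rˣ)) := by simp
      _ = σ ((N⁻¹ : Rˣ) * N) * (N⁻¹ : Rˣ) := by rw [map_mul, e]; ring
      _ = _ := by simp
  obtain ⟨u, hu'⟩ := hθ
  have hσu : σ (u⁻¹ : Rˣ) = -((u⁻¹ : Rˣ) : R) := by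
    have e : σ (u : R) = -(u : R) := by rw [hu', map_sub, hσ2, neg_sub]
    calc σ (u⁻¹ : Rˣ) = σ (u⁻¹ : Rˣ) * (u * (u⁻¹ : Rˣ)) := by simp
      _ = -(σ ((u⁻¹ : Rˣ) * u) * (u⁻¹ : Rˣ)) := by rw [map_mul, e]; ring
      _ = _ := by simp
  obtain ⟨k, hk⟩ := hnil
  obtain ⟨w, hwu, hw⟩ := exists_norm_one_add σ hσ2 (y := θ * (u⁻¹ : Rˣ))
    (by rw [map_mul, hσu, mul_neg, ← sub_eq_add_neg, ← sub_mul, ← hu', Units.mul_inv])
    k n hk (by rw [hn, map_sub, map_mul, map_one, hh, hσN])
  refine ⟨x * w, (isUnit_of_mul_isUnit_left (hN ▸ N.isUnit : IsUnit (x * σ x))).mul hwu, ?_⟩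
  rw [map_mul, mul_mul_mul_comm, hw, ← hN, hn, add_sub_cancel, mul_left_comm, Units.mul_inv, mul_one]

end Comm

/-- In a finite ring with an anti-involution, a fixed unit commuting with a suitable `θ` is
`s c * c`, with `c` in the bicommutant. -/
theorem exists_star_mul_eq {E : Type*} [Ring E] [Finite E] (s : E → E)
    (hadd : ∀ a b, s (a + b) = s a + s b) (hmul : ∀ a b, s (a * b) = s b * s a)
    (hs2 : ∀ a, s (s a) = a) {h θ : E} (hh : s h = h) (hu : IsUnit h)
    (hθh : Commute θ h) (hθs : Commute θ (s θ)) (hθ : IsUnit (θ - s θ)) :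
    ∃ c : E, IsUnit c ∧ s c * c = h ∧
      ∀ a, Commute a h → Commute a θ → Commute a (s θ) → Commute a c := by
  have h0 : s 0 = 0 := by simpa using hadd 0 0
  have hneg : ∀ a, s (-a) = -s a := fun a =>
    eq_neg_of_add_eq_zero_left (by rw [← hadd, neg_add_cancel, h0])
  have h1 : s 1 = 1 := by
    have := hmul 1 (s 1)
    rwa [one_mul, hs2, one_mul, eq_comm] at this
  have hθ'h : Commute (s θ) h := by
    have := congrArg s hθh.eq
    rw [hmul, hmul, hh] at this
    exact this.symm
  set S : Set E := {h, θ, s θ}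
  have hcomm : ∀ a ∈ S, ∀ b ∈ S, a * b = b * a := by
    rintro a (rfl | rfl | rfl) b (rfl | rfl | rfl)
    all_goals first
      | rfl | exact hθh.eq | exact hθh.eq.symm | exact hθ'h.eq | exact hθ'h.eq.symm
      | exact hθs.eq | exact hθs.eq.symm
  letI : CommRing (Subring.closure S) :=
    Subring.closureCommRingOfComm hcomm
  have hmem : ∀ a ∈ Subring.closure S, s a ∈ Subring.closure S := by
    intro a ha
    induction ha using Subring.closure_induction with
    | mem x hx =>
      rcases hx with rfl | rfl | rfl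
      · rw [hh]; exact Subring.subset_closure (Or.inl rfl)
      · exact Subring.subset_closure (Or.inr (Or.inr rfl))
      · rw [hs2]; exact Subring.subset_closure (Or.inr (Or.inl rfl))
    | zero => rw [h0]; exact zero_mem _
    | one => rw [h1]; exact one_mem _
    | add x y _ _ hx hy => rw [hadd]; exact add_mem hx hy
    | neg x _ hx => rw [hneg]; exact neg_mem hx
    | mul x y _ _ hx hy => rw [hmul]; exact mul_mem hy hx
  let σ : Subring.closure S →+* Subring.closure S :=
    { toFun := fun a => ⟨s a, hmem a a.2⟩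
      map_one' := Subtype.ext h1
      map_zero' := Subtype.ext h0
      map_add' := fun a b => Subtype.ext (hadd a b)
      map_mul' := fun a b => by
        rw [mul_comm a b]
        exact Subtype.ext (hmul b a) }
  have hunit : ∀ a : Subring.closure S, IsUnit (a : E) → IsUnit a := by
    intro a ha
    obtain ⟨b, hb⟩ := Finite.surjective_of_injective
      (f := fun b : Subring.closure S => a * b) (fun b b' e => Subtype.ext (ha.mul_left_cancel (congrArg Subtype.val e))) 1
    exact ⟨⟨a, b, hb, (mul_comm b a).trans hb⟩, rfl⟩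
  have hhm : h ∈ Subring.closure S := Subring.subset_closure (Or.inl rfl)
  have hθm : θ ∈ Subring.closure S := Subring.subset_closure (Or.inr (Or.inl rfl))
  obtain ⟨x, hxu, hx⟩ := exists_mul_apply_eq_ring σ (fun a => Subtype.ext (hs2 a))
    (θ := ⟨θ, hθm⟩) (hunit _ hθ) (h := ⟨h, hhm⟩) (Subtype.ext hh) (hunit _ hu)
  refine ⟨x, hxu.map (Subring.closure S).subtype, ?_, fun a ha hb hc => ?_⟩
  · rw [mul_comm x] at hx
    exact congrArg Subtype.val hx
  · have hle : Subring.closure S ≤ Subring.centralizer {a} := Subring.closure_le.2 (by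
      intro b hb'
      simp only [S, Set.mem_insert_iff, Set.mem_singleton_iff] at hb'
      simp only [SetLike.mem_coe, Subring.mem_centralizer_iff, Set.mem_singleton_iff, forall_eq]
      rcases hb' with hb' | hb' | hb' <;> rw [hb']
      · exact ha.eq
      · exact hb.eq
      · exact hc.eq)
    exact Subring.mem_centralizer_iff.1 (hle x.2) a rfl

end Cfsg.Agent.ClassConj
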