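import Cfsg.Agent.ClassConj.Norm
import Cfsg.Agent.Forms.UnitaryGeom
import Cfsg.Prelude.Def_LieClassical

/-!
Conjugacy in the finite general unitary groups is controlled by the general linear group.
-/

set_option autoImplicit false

namespace Cfsg.Agent.ClassConj

open Matrix Cfsg.Agent.Classical

variable {F : Type*} [Field F] {n q : ℕ} (hF : U.SqField F q)

/-- The conjugate transpose. -/
noncomputable def cstar (M : Matrix (Fin n) (Fin n) F) : Matrix (Fin n) (Fin n) F :=
  (M.map (Forms.sqConj hF))ᵀ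

theorem cstar_add (M N : Matrix (Fin n) (Fin n) F) : cstar hF (M + N) = cstar hF M + cstar hF N := by
  rw [cstar, Matrix.map_add _ (map_add (Forms.sqConj hF)), transpose_add]; rfl

theorem cstar_mul (M N : Matrix (Fin n) (Fin n) F) : cstar hF (M * N) = cstar hF N * cstar hF M := by
  rw [cstar, Matrix.map_mul, transpose_mul]; rfl

theorem cstar_cstar (M : Matrix (Fin n) (Fin n) F) : cstar hF (cstar hF M) = M := by
  ext i j
  exact Forms.sqConj_sqConj hF _

theorem cstar_smul_one (c : F) :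
    cstar hF (c • (1 : Matrix (Fin n) (Fin n) F)) = (Forms.sqConj hF c) • 1 := by
  ext i j
  rcases eq_or_ne j i with rfl | h <;> simp [cstar, *, Ne.symm]

theorem mem_GU_iff_cstar (g : GL (Fin n) F) :
    g ∈ Cfsg.GU n F q ↔ cstar hF (g : Matrix (Fin n) (Fin n) F) * (g : Matrix (Fin n) (Fin n) F) = 1 := by
  set A := (g : Matrix (Fin n) (Fin n) F)
  have key : ∀ u v, Cfsg.hermForm n F q (A *ᵥ u) (A *ᵥ v)
      = u ⬝ᵥ ((Aᵀ * A.map (Forms.sqConj hF)) *ᵥ fun i => Forms.sqConj hF (v i)) := by
    intro u v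
    rw [← mulVec_mulVec, dotProduct_mulVec u, vecMul_transpose]
    show ∑ i, _ = ∑ i, _
    refine Finset.sum_congr rfl fun i _ => congrArg _ ?_
    exact RingHom.map_mulVec (Forms.sqConj hF) A v i
  constructor
  · intro h
    apply transpose_injective
    rw [transpose_mul, cstar, transpose_transpose, transpose_one]
    ext i j
    have h' := h (Pi.single i 1) (Pi.single j 1)
    change Cfsg.hermForm n F q (A *ᵥ _) (A *ᵥ _) = _ at h'
    rw [key] at h'
    have e : (fun k => Forms.sqConj hF ((Pi.single j (1 : F) : Fin n → F) k)) = Pi.single j 1 := by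
      funext k; rcases eq_or_ne k j with rfl | hk <;> simp [*]
    rw [e] at h'
    simp only [Matrix.mulVec_single_one, single_dotProduct, one_mul] at h'
    rw [show (Aᵀ * A.map (Forms.sqConj hF)) i j = _ from h']
    show ∑ k, _ = _
    rw [Finset.sum_eq_single i (fun k _ hk => by simp [hk]) (fun h => absurd (Finset.mem_univ i) h)]
    rcases eq_or_ne i j with rfl | hij
    · simp
    · simp [hij, zero_pow hF.q_ne_zero]
  · intro h u v
    have h' : Aᵀ * A.map (Forms.sqConj hF) = 1 := by
      have := congrArg transpose h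
      rwa [transpose_mul, cstar, transpose_transpose, transpose_one] at this
    show Cfsg.hermForm n F q (A *ᵥ u) (A *ᵥ v) = _
    rw [key, h', one_mulVec]
    rfl

include hF in
/-- Two unitary elements conjugate in `GL` are conjugate in `GU`. -/
theorem GU_isConj_of_isConj (A B : ↥(Cfsg.GU n F q)) (h : IsConj (A : GL (Fin n) F) (B : GL (Fin n) F)) :
    IsConj A B := by
  haveI := hF.1
  obtain ⟨g, hg⟩ := isConj_iff.1 h
  set a := ((A : GL (Fin n) F) : Matrix (Fin n) (Fin n) F)
  set b := ((B : GL (Fin n) F) : Matrix (Fin n) (Fin n) F)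
  set G := (g : Matrix (Fin n) (Fin n) F)
  have hga : G * a = b * G := congrArg Units.val (mul_inv_eq_iff_eq_mul.1 hg)
  have ha : cstar hF a * a = 1 := (mem_GU_iff_cstar hF _).1 A.2
  have hb : cstar hF b * b = 1 := (mem_GU_iff_cstar hF _).1 B.2
  have ha' : a * cstar hF a = 1 := mul_eq_one_comm.1 ha
  have hb' : b * cstar hF b = 1 := mul_eq_one_comm.1 hb
  have hgs : cstar hF G * b = a * cstar hF G := by
    have h1 := congrArg (cstar hF) hga
    rw [cstar_mul, cstar_mul] at h1
    calc cstar hF G * b = a * cstar hF a * cstar hF G * b := by rw [ha', one_mul]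
      _ = a * cstar hF G := by rw [mul_assoc a, h1, mul_assoc, mul_assoc, hb, mul_one]
  have hah : Commute a (cstar hF G * G) := by
    show a * (cstar hF G * G) = cstar hF G * G * a
    rw [← mul_assoc, ← hgs, mul_assoc, ← hga, ← mul_assoc]
  obtain ⟨c0, hc0⟩ : ∃ c : F, Forms.sqConj hF c ≠ c := by
    by_contra hc
    push Not at hc
    exact Forms.sqConj_ne_id hF (RingHom.ext hc)
  have hscal : ∀ (x : F) (M : Matrix (Fin n) (Fin n) F), Commute (x • (1 : Matrix (Fin n) (Fin n) F)) M :=
    fun x M => (Commute.one_left M).smul_left x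
  have hGu : IsUnit (cstar hF G) := by
    refine ⟨⟨cstar hF G, cstar hF ((g⁻¹ : GL (Fin n) F) : Matrix (Fin n) (Fin n) F), ?_, ?_⟩, rfl⟩
    all_goals
      rw [← cstar_mul]
      first | rw [show ((g⁻¹ : GL (Fin n) F) : Matrix (Fin n) (Fin n) F) * G = 1 from g.inv_mul]
            | rw [show G * ((g⁻¹ : GL (Fin n) F) : Matrix (Fin n) (Fin n) F) = 1 from g.mul_inv]
      simpa using cstar_smul_one hF (n := n) (1 : F)
  obtain ⟨c, hcu, hcc, hcomm⟩ := exists_star_mul_eq (cstar hF) (cstar_add hF) (cstar_mul hF)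
    (cstar_cstar hF) (h := cstar hF G * G) (θ := c0 • 1) (by rw [cstar_mul, cstar_cstar])
    (hGu.mul g.isUnit) (hscal _ _) (hscal _ _)
    (by
      rw [cstar_smul_one, ← sub_smul]
      exact ((Ne.isUnit (sub_ne_zero.2 (Ne.symm hc0))).map (algebraMap F (Matrix (Fin n) (Fin n) F))).elim
        fun u hu => ⟨u, by rw [hu, Algebra.algebraMap_eq_smul_one]⟩)
  have hac : Commute a c := hcomm a hah (hscal _ _).symm (by rw [cstar_smul_one]; exact (hscal _ _).symm)
  obtain ⟨cu, rfl⟩ := hcu
  have hu : g * cu⁻¹ ∈ Cfsg.GU n F q := by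
    rw [mem_GU_iff_cstar hF, Units.val_mul, cstar_mul, mul_assoc, ← mul_assoc (cstar hF G), ← hcc,
      mul_assoc, ← mul_assoc, ← cstar_mul, Units.mul_inv, mul_one]
    simpa using cstar_smul_one hF (n := n) (1 : F)
  refine isConj_iff.2 ⟨⟨g * cu⁻¹, hu⟩, Subtype.ext ?_⟩
  have hac' : Commute (A : GL (Fin n) F) cu := Units.ext hac.eq
  show g * cu⁻¹ * (A : GL (Fin n) F) * (g * cu⁻¹)⁻¹ = B
  rw [mul_inv_eq_iff_eq_mul, mul_assoc g, ← (hac'.inv_right).eq, ← mul_assoc g,
    mul_inv_eq_iff_eq_mul.1 hg, mul_assoc]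

end Cfsg.Agent.ClassConj
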